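import Groth.Agent.Lib.CAlgLow.NormalInter
import Groth.Agent.Lib.Curve17.Basic
import Mathlib

/-!
# Divisors of constants in a flat algebra with integral fibres over height one primes

`R` a normal Noetherian domain, `A` a flat `R`-algebra such that the fibres over the height one primes are
integral or empty.  A divisor `b` of a nonzero constant generates an ideal extended from `R`, so near any
prime of `A` it is a constant times a unit.
-/

universe u

open scoped algebraMap

namespace Groth.Agent.DescTriv11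

variable {R : Type u} [CommRing R]

/-- The elements `a` with `d ∣ σ * a`. -/
def col (d σ : R) : Ideal R := Submodule.comap (LinearMap.mulLeft R σ) (Ideal.span {d})

theorem mem_col {d σ a : R} : a ∈ col d σ ↔ d ∣ σ * a := Ideal.mem_span_singleton

variable {A : Type u} [CommRing A] [Algebra R A]

/-- Flatness: a divisibility condition on an element of an extended ideal cuts out an extended ideal. -/
theorem mem_map_inf_col [Module.Flat R A] (J : Ideal R) (d σ : R) (w : A)
    (hw : w ∈ J.map (algebraMap R A)) (h : algebraMap R A d ∣ algebraMap R A σ * w) :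
    w ∈ (J ⊓ col d σ).map (algebraMap R A) := by
  obtain ⟨α, hα⟩ := h
  obtain ⟨n, y, g, hsum⟩ := Submodule.mem_span_set'.1 hw
  choose a haJ ha using fun k => (g k).2
  let F : Option (Fin n) → R := fun i => i.elim (-d) fun k => σ * a k
  let x : Option (Fin n) → A := fun i => i.elim α y
  have hF : ∑ i, F i • x i = 0 := by
    rw [Fintype.sum_option]
    simp only [F, x, Option.elim_none, Option.elim_some, Algebra.smul_def, map_neg, map_mul]
    have hs : ∑ k, algebraMap R A σ * algebraMap R A (a k) * y k = algebraMap R A σ * w := by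
      rw [← hsum, Finset.mul_sum]
      exact Finset.sum_congr rfl fun k _ => by rw [smul_eq_mul, ← ha k]; ring
    rw [hs, hα]
    ring
  obtain ⟨m, a', z, hx, hrel⟩ :=
    Module.Flat.isTrivialRelation_of_sum_smul_eq_zero (R := R) (M := A) (f := F) (x := x) hF
  have hw' : w = ∑ j, algebraMap R A (∑ k, a k * a' (some k) j) * z j := by
    rw [← hsum]
    calc ∑ k, y k • (g k : A) = ∑ k, ∑ j, algebraMap R A (a k * a' (some k) j) * z j := by
          refine Finset.sum_congr rfl fun k _ => ?_
          have := hx (some k)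
          simp only [x, Option.elim_some] at this
          rw [smul_eq_mul, ← ha k, this, Finset.sum_mul]
          exact Finset.sum_congr rfl fun j _ => by rw [Algebra.smul_def, map_mul]; ring
      _ = _ := by
          rw [Finset.sum_comm]
          exact Finset.sum_congr rfl fun j _ => by rw [map_sum, Finset.sum_mul]
  rw [hw']
  refine Ideal.sum_mem _ fun j _ => Ideal.mul_mem_right _ _ (Ideal.mem_map_of_mem _ ⟨?_, ?_⟩)
  · exact Ideal.sum_mem _ fun k _ => J.mul_mem_right _ (haJ k)
  · refine mem_col.2 ⟨a' none j, ?_⟩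
    have h1 := hrel j
    rw [Fintype.sum_option] at h1
    simp only [F, Option.elim_none, Option.elim_some] at h1
    rw [Finset.mul_sum]
    have e : ∑ k, σ * (a k * a' (some k) j) = ∑ k, σ * a k * a' (some k) j :=
      Finset.sum_congr rfl fun k _ => by ring
    rw [e]
    linear_combination h1

theorem mem_map_finset_inf [Module.Flat R A] {ι : Type*} (s : Finset ι) (d σ : ι → R) (w : A)
    (h : ∀ i ∈ s, algebraMap R A (d i) ∣ algebraMap R A (σ i) * w) :
    w ∈ (s.inf fun i => col (d i) (σ i)).map (algebraMap R A) := by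
  classical
  induction s using Finset.induction_on with
  | empty => rw [Finset.inf_empty, Ideal.map_top]; trivial
  | insert i s hi ih =>
    rw [Finset.inf_insert, inf_comm]
    exact mem_map_inf_col _ _ _ _ (ih fun j hj => h j (Finset.mem_insert_of_mem hj))
      (h i (Finset.mem_insert_self _ _))

/-- A uniformiser at a height one prime. -/
theorem exists_uniformizer [IsDomain R] [IsNoetherianRing R] [IsIntegrallyClosed R] (P : Ideal R)
    [P.IsPrime] (hP : P.height = 1) :
    ∃ π : R, π ∈ P ∧ π ≠ 0 ∧ (∀ p ∈ P, ∃ s ∉ P, π ∣ s * p) ∧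
      ∀ c : R, c ≠ 0 → ∃ (N : ℕ) (s u : R), s ∉ P ∧ u ∉ P ∧ s * c = u * π ^ N := by
  let T := Localization.AtPrime P
  haveI : IsIntegrallyClosed T :=
    isIntegrallyClosed_of_isLocalization (S := T) P.primeCompl P.primeCompl_le_nonZeroDivisors
  haveI : IsDiscreteValuationRing T := Curve17.isDiscreteValuationRing_of_dim_one T
    (by rw [IsLocalization.AtPrime.ringKrullDim_eq_height P T, hP]; rfl)
  have hinj : Function.Injective (algebraMap R T) :=
    IsLocalization.injective T P.primeCompl_le_nonZeroDivisors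
  obtain ⟨ϖ, hϖ⟩ := IsDiscreteValuationRing.exists_irreducible T
  obtain ⟨π, t, hπ⟩ := IsLocalization.exists_mk'_eq P.primeCompl ϖ
  have hπ' : Irreducible (algebraMap R T π) := by
    rw [← IsLocalization.mk'_spec T π t, hπ]
    exact (irreducible_mul_isUnit (IsLocalization.map_units T t)).2 hϖ
  have hmax := hπ'.maximalIdeal_eq
  have hne : π ≠ 0 := fun h => hπ'.ne_zero (by rw [h, map_zero])
  refine ⟨π, ?_, hne, fun p hp => ?_, fun c hc => ?_⟩
  · rw [← IsLocalization.AtPrime.to_map_mem_maximal_iff T P π, hmax]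
    exact Ideal.mem_span_singleton_self _
  · have h1 := (IsLocalization.AtPrime.to_map_mem_maximal_iff T P p).2 hp
    rw [hmax, Ideal.mem_span_singleton] at h1
    obtain ⟨q, hq⟩ := h1
    obtain ⟨r, s, rfl⟩ := IsLocalization.exists_mk'_eq P.primeCompl q
    refine ⟨s, s.2, r, hinj ?_⟩
    rw [map_mul, map_mul, hq, mul_left_comm, IsLocalization.mk'_spec']
  · obtain ⟨N, v, hv⟩ := IsDiscreteValuationRing.eq_unit_mul_pow_irreducible
      (fun h => hc (hinj (h.trans (map_zero (algebraMap R T)).symm))) hπ'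
    obtain ⟨r, s, hrs⟩ := IsLocalization.exists_mk'_eq P.primeCompl (v : T)
    have hr : r ∉ P := (IsLocalization.AtPrime.isUnit_mk'_iff T P r s).1 (hrs ▸ v.isUnit)
    refine ⟨N, s, r, s.2, hr, hinj ?_⟩
    rw [map_mul, map_mul, map_pow, hv, ← hrs, ← mul_assoc, IsLocalization.mk'_spec']

variable [IsDomain R]

theorem mul_left_cancel_algebraMap [Module.Flat R A] {r : R} (hr : r ≠ 0) {x y : A}
    (h : algebraMap R A r * x = algebraMap R A r * y) : x = y :=
  Module.Flat.isSMulRegular_of_isRegular (M := A) (IsRegular.of_ne_zero hr)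
    (show r • x = r • y by rw [Algebra.smul_def, Algebra.smul_def, h])

/-- The order of a divisor of a constant at a prime where the uniformiser stays prime. -/
theorem exists_order [Module.Flat R A] (P : Ideal R) [P.IsPrime] {π : R} (hπ0 : π ≠ 0)
    (hprime : ∀ x y : A, algebraMap R A π ∣ x * y →
      (∃ s ∉ P, algebraMap R A π ∣ algebraMap R A s * x) ∨ (∃ s ∉ P, algebraMap R A π ∣ algebraMap R A s * y)) :
    ∀ (N : ℕ) (b b' : A) (v : R), v ∉ P → b * b' = algebraMap R A (v * π ^ N) →
      ∃ (n : ℕ) (t t' : R), t ∉ P ∧ t' ∉ P ∧ algebraMap R A (π ^ n) ∣ algebraMap R A t * b ∧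
        b ∣ algebraMap R A (t' * π ^ n) := by
  intro N
  induction N with
  | zero =>
    intro b b' v hv h
    exact ⟨0, 1, v, fun h1 => Ideal.IsPrime.ne_top' ((Ideal.eq_top_iff_one P).2 h1), hv,
      by simp, b', h.symm⟩
  | succ N ih =>
    intro b b' v hv h
    have hd : algebraMap R A π ∣ b * b' := ⟨algebraMap R A (v * π ^ N), by rw [h, pow_succ]; simp only [map_mul]; ring⟩
    rcases hprime b b' hd with ⟨s, hs, b₁, hb₁⟩ | ⟨s, hs, b₁, hb₁⟩
    · have h1 : b₁ * b' = algebraMap R A ((s * v) * π ^ N) := by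
        refine mul_left_cancel_algebraMap hπ0 ?_
        rw [← mul_assoc, ← hb₁, mul_assoc, h, pow_succ]
        simp only [map_mul]
        ring
      obtain ⟨n, t, t', ht, ht', hd1, w, hw⟩ := ih b₁ b' (s * v) (Ideal.IsPrime.mul_notMem ‹_› hs hv) h1
      refine ⟨n + 1, t * s, t', Ideal.IsPrime.mul_notMem ‹_› ht hs, ht', ?_, ⟨algebraMap R A s * w, ?_⟩⟩
      · rw [map_mul, mul_assoc, hb₁, pow_succ, map_mul, ← mul_left_comm, mul_comm (algebraMap R A (π ^ n))]
        exact mul_dvd_mul_left _ hd1
      · rw [← mul_assoc, mul_comm b, hb₁, mul_assoc, ← hw, pow_succ]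
        simp only [map_mul]
        ring
    · have h1 : b * b₁ = algebraMap R A ((s * v) * π ^ N) := by
        refine mul_left_cancel_algebraMap hπ0 ?_
        rw [mul_left_comm, ← hb₁, mul_left_comm, h, pow_succ]
        simp only [map_mul]
        ring
      exact ih b b₁ (s * v) (Ideal.IsPrime.mul_notMem ‹_› hs hv) h1

variable [IsNoetherianRing R] [IsIntegrallyClosed R]

theorem finite_heightOne_containing {c : R} (hc : c ≠ 0) :
    {P : Ideal R | P.IsPrime ∧ P.height = 1 ∧ c ∈ P}.Finite := by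
  refine (Ideal.finite_minimalPrimes_of_isNoetherianRing R (Ideal.span {c})).subset ?_
  rintro P ⟨hP, hh, hcP⟩
  refine ⟨⟨hP, (Ideal.span_singleton_le_iff_mem _).2 hcP⟩, fun Q hQ hle => le_of_eq ?_⟩
  by_contra hne
  haveI := hQ.1
  have h1 : Q.height + 1 ≤ P.height := Ideal.height_add_one_le_of_lt_of_isPrime (lt_of_le_of_ne hle (Ne.symm hne))
  have h2 : (⊥ : Ideal R) < Q := bot_lt_iff_ne_bot.2 fun h0 =>
    hc (by have := hQ.2 (Ideal.mem_span_singleton_self c); rwa [h0, Ideal.mem_bot] at this)
  have h3 : (⊥ : Ideal R).height + 1 ≤ Q.height := Ideal.height_add_one_le_of_lt_of_isPrime h2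
  rw [hh] at h1
  have h4 : (1 : ℕ∞) + 1 ≤ 1 := le_trans (add_le_add_left (le_trans le_add_self h3) 1) h1
  exact absurd h4 (by decide)

/-- A divisor of a nonzero constant generates an extended ideal. -/
theorem exists_ideal_map_eq_span [Module.Flat R A] {b b' : A} {c : R} (hc : c ≠ 0)
    (hbb : b * b' = algebraMap R A c)
    (hfib : ∀ P : Ideal R, P.IsPrime → P.height = 1 → ∀ x y : A,
      (∃ s ∉ P, algebraMap R A s * (x * y) ∈ P.map (algebraMap R A)) →
        (∃ s ∉ P, algebraMap R A s * x ∈ P.map (algebraMap R A)) ∨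
          (∃ s ∉ P, algebraMap R A s * y ∈ P.map (algebraMap R A))) :
    ∃ M : Ideal R, M.map (algebraMap R A) = Ideal.span {b} := by
  classical
  let S := (finite_heightOne_containing hc).toFinset
  have key : ∀ P : S, ∃ (d σ τ : R), σ ∉ P.1 ∧ τ ∉ P.1 ∧
      algebraMap R A d ∣ algebraMap R A σ * b ∧ b ∣ algebraMap R A (τ * d) := fun P => by
    obtain ⟨hP, hh, -⟩ := (finite_heightOne_containing hc).mem_toFinset.1 P.2
    haveI := hP
    obtain ⟨π, hπP, hπ0, hπ, hfac⟩ := exists_uniformizer P.1 hh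
    obtain ⟨N, s, u, hs, hu, hsc⟩ := hfac c hc
    have hup : ∀ x : A, (∃ s ∉ P.1, algebraMap R A s * x ∈ P.1.map (algebraMap R A)) →
        ∃ s ∉ P.1, algebraMap R A π ∣ algebraMap R A s * x := by
      rintro x ⟨s, hs, hx⟩
      choose e he hed using hπ
      obtain ⟨G, hG⟩ := IsNoetherian.noetherian P.1
      let E : R := ∏ g ∈ G.attach, e g.1 (hG ▸ Submodule.subset_span g.2)
      have hE : E ∉ P.1 := fun h => by
        obtain ⟨g, -, hg⟩ := (hP.prod_mem_iff).1 h
        exact he _ _ hg
      refine ⟨E * s, hP.mul_notMem hE hs, ?_⟩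
      have hle : P.1 ≤ Submodule.comap (LinearMap.mulLeft R E) (Ideal.span {π}) := by
        rw [← hG, Submodule.span_le]
        intro g hg
        refine Ideal.mem_span_singleton.2 (dvd_trans (hed g (hG ▸ Submodule.subset_span hg)) ?_)
        exact mul_dvd_mul_right (Finset.dvd_prod_of_mem _ (Finset.mem_attach G ⟨g, hg⟩)) g
      have hle' : P.1.map (algebraMap R A) ≤
          Submodule.comap (LinearMap.mulLeft A (algebraMap R A E)) (Ideal.span {algebraMap R A π}) := by
        refine Ideal.map_le_iff_le_comap.2 fun p hp => Ideal.mem_span_singleton.2 ?_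
        rw [LinearMap.mulLeft_apply, ← map_mul]
        exact map_dvd _ (Ideal.mem_span_singleton.1 (hle hp))
      rw [map_mul, mul_assoc]
      exact Ideal.mem_span_singleton.1 (hle' hx)
    have hprime : ∀ x y : A, algebraMap R A π ∣ x * y →
        (∃ s ∉ P.1, algebraMap R A π ∣ algebraMap R A s * x) ∨
          (∃ s ∉ P.1, algebraMap R A π ∣ algebraMap R A s * y) := by
      rintro x y ⟨z, hz⟩
      refine (hfib P.1 hP hh x y ⟨1, fun h1 => hP.ne_top ((Ideal.eq_top_iff_one _).2 h1), ?_⟩).imp (hup x) (hup y)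
      rw [map_one, one_mul, hz]
      exact Ideal.mul_mem_right _ _ (Ideal.mem_map_of_mem _ hπP)
    obtain ⟨n, t, t', ht, ht', h1, h2⟩ := exists_order P.1 hπ0 hprime N b (algebraMap R A s * b') u hu
      (by rw [mul_left_comm, hbb, ← map_mul, hsc])
    exact ⟨π ^ n, t, t', ht, ht', h1, h2⟩
  choose d σ τ hσ hτ hd hb using key
  let M : Ideal R := (Finset.univ : Finset S).inf fun P => col (d P) (σ P)
  refine ⟨M, le_antisymm (Ideal.map_le_iff_le_comap.2 fun m hm => ?_) ?_⟩
  · rw [Ideal.mem_comap, Ideal.mem_span_singleton]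
    have hm' : algebraMap R A m * b' ∈ ((Finset.univ : Finset S).inf fun P => col c (σ P * τ P)).map (algebraMap R A) := by
      refine mem_map_finset_inf _ _ _ _ fun P _ => ?_
      obtain ⟨r, hr⟩ := mem_col.1 (Submodule.mem_finsetInf.1 hm P (Finset.mem_univ _))
      obtain ⟨w, hw⟩ := hb P
      refine ⟨w * algebraMap R A r, ?_⟩
      calc algebraMap R A (σ P * τ P) * (algebraMap R A m * b')
          = algebraMap R A (τ P) * algebraMap R A (σ P * m) * b' := by simp only [map_mul]; ring
        _ = algebraMap R A (τ P * d P) * algebraMap R A r * b' := by rw [hr]; simp only [map_mul]; ring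
        _ = _ := by rw [hw, ← hbb]; ring
    have hle : ((Finset.univ : Finset S).inf fun P => col c (σ P * τ P)) ≤ Ideal.span {c} := fun a ha => by
      refine Ideal.mem_span_singleton.2 (NormalInter.dvd_of_forall_height_one hc fun P hP hh => ?_)
      by_cases hcP : c ∈ P
      · let P' : S := ⟨P, (finite_heightOne_containing hc).mem_toFinset.2 ⟨hP, hh, hcP⟩⟩
        exact ⟨σ P' * τ P', hP.mul_notMem (hσ P') (hτ P'),
          mem_col.1 (Submodule.mem_finsetInf.1 ha P' (Finset.mem_univ _))⟩
      · exact ⟨c, hcP, dvd_mul_right _ _⟩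
    have h2 := Ideal.map_mono (f := algebraMap R A) hle hm'
    rw [Ideal.map_span, Set.image_singleton, Ideal.mem_span_singleton] at h2
    obtain ⟨γ, hγ⟩ := h2
    refine ⟨γ, mul_left_cancel_algebraMap hc ?_⟩
    calc algebraMap R A c * algebraMap R A m = b * (algebraMap R A m * b') := by rw [← hbb]; ring
      _ = algebraMap R A c * (b * γ) := by rw [hγ]; ring
  · rw [Ideal.span_singleton_le_iff_mem]
    exact mem_map_finset_inf _ _ _ _ fun P _ => hd P

/-- Near any prime a divisor of a nonzero constant is a constant up to a unit. -/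
theorem exists_eq_mul [Module.Flat R A] {b b' : A} {c : R} (hc : c ≠ 0)
    (hbb : b * b' = algebraMap R A c)
    (hfib : ∀ P : Ideal R, P.IsPrime → P.height = 1 → ∀ x y : A,
      (∃ s ∉ P, algebraMap R A s * (x * y) ∈ P.map (algebraMap R A)) →
        (∃ s ∉ P, algebraMap R A s * x ∈ P.map (algebraMap R A)) ∨
          (∃ s ∉ P, algebraMap R A s * y ∈ P.map (algebraMap R A)))
    (q : Ideal A) [q.IsPrime] :
    ∃ (m : R) (δ : A), δ ∉ q ∧ algebraMap R A m = b * δ ∧ m ≠ 0 := by
  obtain ⟨M, hM⟩ := exists_ideal_map_eq_span hc hbb hfib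
  have hb : b ∈ M.map (algebraMap R A) := hM ▸ Ideal.mem_span_singleton_self b
  obtain ⟨n, β, g, hsum⟩ := Submodule.mem_span_set'.1 hb
  choose m hmM hm using fun k => (g k).2
  have hdvd : ∀ k, b ∣ algebraMap R A (m k) := fun k =>
    Ideal.mem_span_singleton.1 (hM ▸ Ideal.mem_map_of_mem _ (hmM k))
  choose δ hδ using hdvd
  have hreg : ∀ x : A, b * x = 0 → x = 0 := fun x hx =>
    mul_left_cancel_algebraMap (r := c) hc (by rw [← hbb, mul_comm b b', mul_assoc, hx, mul_zero, mul_zero])
  have h1 : (∑ k, β k * δ k) = 1 := by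
    refine sub_eq_zero.1 (hreg _ ?_)
    rw [mul_sub, mul_one, Finset.mul_sum, sub_eq_zero]
    conv_rhs => rw [← hsum]
    exact Finset.sum_congr rfl fun k _ => by rw [smul_eq_mul, ← hm k, hδ k]; ring
  obtain ⟨k, hk⟩ : ∃ k, δ k ∉ q := by
    by_contra! hall
    exact Ideal.IsPrime.ne_top' ((Ideal.eq_top_iff_one q).2
      (h1 ▸ Ideal.sum_mem _ fun k _ => q.mul_mem_left _ (hall k)))
  refine ⟨m k, δ k, hk, hδ k, fun h0 => hk ?_⟩
  rw [show δ k = 0 from hreg _ (by rw [← hδ k, h0, map_zero])]
  exact zero_mem _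

/-- Divisibility in `R` is tested at the height one primes below a given one. -/
theorem dvd_mul_of_forall_height_one (𝔭 : Ideal R) [𝔭.IsPrime] {a b : R} (hb : b ≠ 0)
    (h : ∀ P : Ideal R, P.IsPrime → P.height = 1 → P ≤ 𝔭 → ∃ s ∉ P, b ∣ s * a) :
    ∃ s ∉ 𝔭, b ∣ s * a := by
  let T := Localization.AtPrime 𝔭
  haveI : IsIntegrallyClosed T :=
    isIntegrallyClosed_of_isLocalization (S := T) 𝔭.primeCompl 𝔭.primeCompl_le_nonZeroDivisors
  have hinj : Function.Injective (algebraMap R T) :=
    IsLocalization.injective T 𝔭.primeCompl_le_nonZeroDivisors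
  have hd : algebraMap R T b ∣ algebraMap R T a := by
    refine NormalInter.dvd_of_forall_height_one ((map_ne_zero_iff _ hinj).2 hb) fun Q hQ hh => ?_
    have hle : Q.comap (algebraMap R T) ≤ 𝔭 := fun r hr => by
      by_contra hr'
      exact hQ.ne_top (Ideal.eq_top_of_isUnit_mem Q hr (IsLocalization.map_units T (⟨r, hr'⟩ : 𝔭.primeCompl)))
    obtain ⟨s, hs, hsa⟩ := h (Q.comap (algebraMap R T)) inferInstance
      ((IsLocalization.height_under 𝔭.primeCompl Q).trans hh) hle
    exact ⟨algebraMap R T s, hs, by rw [← map_mul]; exact map_dvd _ hsa⟩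
  obtain ⟨w, hw⟩ := hd
  obtain ⟨r, s, rfl⟩ := IsLocalization.exists_mk'_eq 𝔭.primeCompl w
  refine ⟨s, s.2, r, hinj ?_⟩
  rw [map_mul, map_mul, hw, mul_left_comm, IsLocalization.mk'_spec']

end Groth.Agent.DescTriv11
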