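import Groth.Agent.Lib.DescTriv11.Fibre
import Groth.Prelude.Def_Pi1
import Mathlib.RingTheory.Ideal.MinimalPrime.Noetherian
import Mathlib.RingTheory.Ideal.MinimalPrime.Localization
import Mathlib.RingTheory.IntegralClosure.IntegrallyClosed
import Mathlib.AlgebraicGeometry.Noetherian

/-!
# Affine charts of a locally Noetherian normal scheme
-/

universe u

set_option linter.style.haveILetI false
set_option backward.isDefEq.respectTransparency false

open CategoryTheory AlgebraicGeometry TopologicalSpace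

namespace Groth.Agent.DescTriv11

/-- A point with no proper generalisation. -/
def IsMax {Y : Scheme.{u}} (η : Y) : Prop := ∀ z : Y, z ⤳ η → z = η

/-- Near a prime with integral local ring a Noetherian reduced ring is a domain. -/
theorem exists_away_domain {A : Type u} [CommRing A] [IsNoetherianRing A] [IsReduced A] (p : Ideal A)
    [p.IsPrime] (hdom : IsDomain (Localization.AtPrime p)) :
    ∃ g ∉ p, ∀ (B : Type u) [CommRing B] [Algebra A B] [IsLocalization.Away g B], IsDomain B := by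
  classical
  haveI := hdom
  obtain ⟨P₀, hP₀, hP₀p⟩ := Ideal.exists_minimalPrimes_le (bot_le : (⊥ : Ideal A) ≤ p)
  have huniq : ∀ Q ∈ minimalPrimes A, Q ≤ p → Q = P₀ := by
    have key : ∀ Q ∈ minimalPrimes A, Q ≤ p →
        Q = (⊥ : Ideal (Localization.AtPrime p)).comap (algebraMap A (Localization.AtPrime p)) := by
      intro Q hQ hQq
      haveI : Q.IsPrime := hQ.1.1
      haveI : (⊥ : Ideal (Localization.AtPrime p)).IsPrime := Ideal.isPrime_bot
      have hd : Disjoint (p.primeCompl : Set A) Q :=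
        Set.disjoint_left.mpr fun x hx hxQ => hx (hQq hxQ)
      have h2 : (⊥ : Ideal (Localization.AtPrime p)).comap (algebraMap A (Localization.AtPrime p)) ≤ Q :=
        (Ideal.comap_mono bot_le).trans
          (IsLocalization.comap_map_of_isPrime_disjoint p.primeCompl (Localization.AtPrime p) inferInstance hd).le
      exact le_antisymm (hQ.2 ⟨inferInstance, bot_le⟩ h2) h2
    exact fun Q hQ hQp => (key Q hQ hQp).trans (key P₀ hP₀ hP₀p).symm
  let S := ((minimalPrimes.finite_of_isNoetherianRing A).toFinset).erase P₀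
  have hsep : ∀ Q : S, ∃ a ∈ Q.1, a ∉ p := fun Q => by
    obtain ⟨hne, hQ⟩ := Finset.mem_erase.1 Q.2
    exact SetLike.not_le_iff_exists.1 fun hle => hne (huniq _ ((Set.Finite.mem_toFinset _).1 hQ) hle)
  choose a haQ hap using hsep
  let g := ∏ Q : S, a Q
  have hgp : g ∉ p := fun h => by
    obtain ⟨Q, -, hQ⟩ := (Ideal.IsPrime.prod_mem_iff (p := p)).1 h
    exact hap Q hQ
  haveI : P₀.IsPrime := hP₀.1.1
  have hmul : ∀ x, x ∈ P₀ → g * x = 0 := by
    intro x hx
    have : g * x ∈ nilradical A := by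
      rw [nilradical, ← Ideal.sInf_minimalPrimes, Ideal.mem_sInf]
      intro Q hQ
      by_cases h : Q = P₀
      · exact h ▸ Ideal.mul_mem_left _ _ hx
      · let Q' : S := ⟨Q, Finset.mem_erase.2 ⟨h, (Set.Finite.mem_toFinset _).2 hQ⟩⟩
        exact Ideal.mul_mem_right _ _ (Q.prod_mem (Finset.mem_univ Q') (haQ Q'))
    rwa [nilradical_eq_zero] at this
  refine ⟨g, hgp, fun B _ _ _ => ?_⟩
  haveI : Nontrivial B := by
    refine nontrivial_of_ne 1 0 fun h => ?_
    obtain ⟨⟨_, n, rfl⟩, hn⟩ := (IsLocalization.map_eq_zero_iff (Submonoid.powers g) B 1).1 (by rw [map_one, h])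
    exact hgp (Ideal.IsPrime.mem_of_pow_mem ‹_› n (by rw [← mul_one (g ^ n)]; exact hn.symm ▸ zero_mem _))
  haveI : NoZeroDivisors B := ⟨fun {x y} hxy => by
    obtain ⟨x', s, rfl⟩ := IsLocalization.exists_mk'_eq (Submonoid.powers g) x
    obtain ⟨y', t, rfl⟩ := IsLocalization.exists_mk'_eq (Submonoid.powers g) y
    rw [← IsLocalization.mk'_mul, IsLocalization.mk'_eq_zero_iff] at hxy
    obtain ⟨⟨_, n, rfl⟩, hn⟩ := hxy
    have hz : ∀ z, z ∈ P₀ → ∀ u, IsLocalization.mk' B z u = 0 := fun z hz u =>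
      (IsLocalization.mk'_eq_zero_iff z u).2 ⟨⟨g, Submonoid.mem_powers g⟩, hmul z hz⟩
    have h2 : g ^ n * (x' * y') ∈ P₀ := by
      rw [show g ^ n * (x' * y') = 0 from hn]; exact zero_mem _
    rcases (‹P₀.IsPrime›.mem_or_mem h2) with h | h
    · exact (hgp (hP₀p (‹P₀.IsPrime›.mem_of_pow_mem n h))).elim
    · exact (‹P₀.IsPrime›.mem_or_mem h).imp (hz x' · s) (hz y' · t)⟩
  exact NoZeroDivisors.to_isDomain B

variable {Y : Scheme.{u}}

/-- A normal scheme is covered by affine opens with normal domains of functions. -/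
theorem exists_chart [IsLocallyNoetherian Y] (hY : Pi1.IsNormalScheme Y) {y : Y} (O : Y.Opens) (hy : y ∈ O) :
    ∃ (U : Y.Opens) (_ : IsAffineOpen U), y ∈ U ∧ U ≤ O ∧ IsDomain Γ(Y, U) ∧
      IsIntegrallyClosed Γ(Y, U) := by
  obtain ⟨U₀, hU₀, hy₀, hU₀O⟩ := exists_isAffineOpen_mem_and_subset (X := Y) (x := y) (U := O) hy
  haveI : ∀ x : Y, _root_.IsReduced (Y.presheaf.stalk x) := fun x => by
    haveI := (hY x).1
    infer_instance
  haveI : IsReduced Y := isReduced_of_isReduced_stalk Y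
  haveI : IsNoetherianRing Γ(Y, U₀) := IsLocallyNoetherian.component_noetherian ⟨U₀, hU₀⟩
  let p := (hU₀.primeIdealOf ⟨y, hy₀⟩).asIdeal
  letI := TopCat.Presheaf.algebra_section_stalk Y.presheaf (⟨y, hy₀⟩ : U₀)
  haveI := hU₀.isLocalization_stalk ⟨y, hy₀⟩
  have hdom : IsDomain (Localization.AtPrime p) := by
    haveI := (hY y).1
    exact (IsLocalization.algEquiv p.primeCompl (Localization.AtPrime p) (Y.presheaf.stalk y)).toRingEquiv.toMulEquiv.isDomain _
  obtain ⟨g, hg, hB⟩ := exists_away_domain p hdom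
  have hyg : y ∈ Y.basicOpen g := by
    rw [Scheme.mem_basicOpen _ _ _ hy₀]
    exact isUnit_germ_of_notMem hU₀ hy₀ hg
  have hU : IsAffineOpen (Y.basicOpen g) := hU₀.basicOpen g
  haveI := hU₀.isLocalization_basicOpen g
  haveI : IsDomain Γ(Y, Y.basicOpen g) := hB Γ(Y, Y.basicOpen g)
  refine ⟨Y.basicOpen g, hU, hyg, (Y.basicOpen_le g).trans hU₀O, inferInstance, ?_⟩
  refine IsIntegrallyClosed.of_localization_maximal fun m _ hm => ?_
  haveI : m.IsPrime := hm.isPrime
  let x : Y.basicOpen g := ⟨hU.fromSpec ⟨m, inferInstance⟩, hU.range_fromSpec.le ⟨_, rfl⟩⟩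
  have hx : hU.primeIdealOf x = ⟨m, inferInstance⟩ :=
    hU.fromSpec.isOpenEmbedding.injective (by rw [hU.fromSpec_primeIdealOf])
  let := TopCat.Presheaf.algebra_section_stalk Y.presheaf x
  haveI : IsLocalization.AtPrime (Y.presheaf.stalk x.1) m := by
    have := hU.isLocalization_stalk x
    rwa [hx] at this
  haveI := (hY x.1).2
  exact IsIntegrallyClosed.of_equiv
    (IsLocalization.algEquiv m.primeCompl (Y.presheaf.stalk x.1) (Localization.AtPrime m)).toRingEquiv

/-- The generic point of an affine open with integral ring of functions. -/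
theorem exists_generic {U : Y.Opens} (hU : IsAffineOpen U) [IsDomain Γ(Y, U)] :
    ∃ (η : Y) (hηU : η ∈ U), IsMax η ∧ primeAt hU hηU = ⊥ ∧ ∀ η' ∈ U, IsMax η' → η' = η := by
  let q : PrimeSpectrum Γ(Y, U) := ⟨⊥, Ideal.isPrime_bot⟩
  let η := hU.fromSpec q
  have hηU : η ∈ U := hU.range_fromSpec.le ⟨_, rfl⟩
  have hq : hU.primeIdealOf ⟨η, hηU⟩ = q := hU.fromSpec.isOpenEmbedding.injective (hU.fromSpec_primeIdealOf ⟨η, hηU⟩)
  have hgen : ∀ z : Y, ∀ hz : z ∈ U, η ⤳ z := fun z hz => by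
    have h := ((PrimeSpectrum.le_iff_specializes q (hU.primeIdealOf ⟨z, hz⟩)).1 bot_le).map hU.fromSpec.continuous
    rwa [hU.fromSpec_primeIdealOf] at h
  refine ⟨η, hηU, fun z hz => ?_, by rw [primeAt, hq], fun η' hη' hmax => (hmax η (hgen η' hη')).symm⟩
  have hzU : z ∈ U := hz.mem_open U.2 hηU
  have h1 : hU.primeIdealOf ⟨z, hzU⟩ ⤳ q := by
    rw [← hU.fromSpec.isOpenEmbedding.isInducing.specializes_iff, hU.fromSpec_primeIdealOf]
    exact hz
  have h2 : hU.primeIdealOf ⟨z, hzU⟩ = q :=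
    le_antisymm ((PrimeSpectrum.le_iff_specializes _ q).2 h1) bot_le
  have h3 := hU.fromSpec_primeIdealOf ⟨z, hzU⟩
  rw [h2] at h3
  exact h3.symm

end Groth.Agent.DescTriv11
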