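import Groth.Agent.Lib.DescTriv11.Tau
import Mathlib.AlgebraicGeometry.Morphisms.UniversallyOpen
import Mathlib.AlgebraicGeometry.Properties

/-!
# Descent of invertible modules trivial on the maximal fibres: local generators over the base
-/

universe u

set_option linter.style.haveILetI false
set_option backward.isDefEq.respectTransparency false

open CategoryTheory AlgebraicGeometry TopologicalSpace

namespace Groth.Agent.DescTriv11

open Groth.Agent.M1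

variable {X Y : Scheme.{u}} (f : X ⟶ Y) [Flat f]

/-- Extended ideals of local rings of the base contract to themselves. -/
theorem comap_map_σ {x : X} {y : Y} (hx : f x = y) (I : Ideal (Y.presheaf.stalk y)) :
    (I.map (DivDesc12.σ f x (specializes_of_eq hx))).comap (DivDesc12.σ f x (specializes_of_eq hx)) = I := by
  letI := (DivDesc12.σ f x (specializes_of_eq hx)).toAlgebra
  haveI : Module.Flat (Y.presheaf.stalk y) (X.presheaf.stalk x) :=
    RingHom.flat_algebraMap_iff.1 (DivDesc12.σ_flat f hx (specializes_of_eq hx))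
  haveI : IsLocalHom (algebraMap (Y.presheaf.stalk y) (X.presheaf.stalk x)) :=
    DivDesc12.isLocalHom_σ f hx (specializes_of_eq hx)
  haveI : Module.FaithfullyFlat (Y.presheaf.stalk y) (X.presheaf.stalk x) :=
    Module.FaithfullyFlat.of_flat_of_isLocalHom
  exact I.comap_map_eq_self_of_faithfullyFlat

/-- Functions on the base inject into functions upstairs. -/
theorem app_injective [Surjective f] (U : Y.Opens) : Function.Injective (f.app U) := by
  refine (injective_iff_map_eq_zero _).2 fun a ha => ?_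
  refine TopCat.Presheaf.section_ext Y.sheaf _ _ _ fun y hy => ?_
  obtain ⟨x, hx⟩ := f.surjective y
  have h : DivDesc12.σ f x (specializes_of_eq hx) (Y.presheaf.germ U y hy a) = 0 := by
    rw [DivDesc12.σ_germ, ha, map_zero]
  have h2 : Y.presheaf.germ U y hy a ∈
      ((⊥ : Ideal (Y.presheaf.stalk y)).map (DivDesc12.σ f x (specializes_of_eq hx))).comap
        (DivDesc12.σ f x (specializes_of_eq hx)) := by
    rw [Ideal.mem_comap, h]; exact zero_mem _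
  rw [comap_map_σ f hx, Ideal.mem_bot] at h2
  exact h2.trans (map_zero _).symm

/-- Divisibility upstairs at a point gives divisibility near the image. -/
theorem exists_dvd_of_germ {U : Y.Opens} (hU : IsAffineOpen U) {W : X.Opens} (e : W ≤ f ⁻¹ᵁ U)
    {x : X} (hxW : x ∈ W) {y : Y} (hy : y ∈ U) (hx : f x = y) (a b : Γ(Y, U))
    (h : X.presheaf.germ W x hxW (f.appLE U W e b) ∣ X.presheaf.germ W x hxW (f.appLE U W e a)) :
    ∃ s ∉ primeAt hU hy, b ∣ s * a := by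
  rw [germ_appLE f e hy hxW (specializes_of_eq hx), germ_appLE f e hy hxW (specializes_of_eq hx)] at h
  have h2 : Y.presheaf.germ U y hy a ∈
      ((Ideal.span {Y.presheaf.germ U y hy b}).map (DivDesc12.σ f x (specializes_of_eq hx))).comap
        (DivDesc12.σ f x (specializes_of_eq hx)) := by
    rw [Ideal.mem_comap, Ideal.map_span, Set.image_singleton, Ideal.mem_span_singleton]
    exact h
  rw [comap_map_σ f hx, Ideal.mem_span_singleton] at h2
  letI := TopCat.Presheaf.algebra_section_stalk Y.presheaf (⟨y, hy⟩ : U)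
  haveI := hU.isLocalization_stalk ⟨y, hy⟩
  obtain ⟨w, hw⟩ := h2
  obtain ⟨k, s, rfl⟩ := IsLocalization.exists_mk'_eq (primeAt hU hy).primeCompl w
  have h3 : algebraMap Γ(Y, U) (Y.presheaf.stalk y) (s * a) = algebraMap Γ(Y, U) (Y.presheaf.stalk y) (b * k) := by
    change Y.presheaf.germ U y hy a = algebraMap Γ(Y, U) (Y.presheaf.stalk y) b * _ at hw
    rw [map_mul, map_mul, show algebraMap Γ(Y, U) (Y.presheaf.stalk y) a = _ from hw, mul_left_comm,
      IsLocalization.mk'_spec']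
  obtain ⟨t, ht⟩ := (IsLocalization.eq_iff_exists (primeAt hU hy).primeCompl _).1 h3
  refine ⟨t * s, (hU.primeIdealOf ⟨y, hy⟩).isPrime.mul_notMem t.2 s.2, (t : Γ(Y, U)) * k, ?_⟩
  rw [mul_assoc, ht]
  ring

theorem isGen_smul {L : X.Modules} {W : X.Opens} {g : Γ(L, W)} (hg : Twist.IsGen L W g) {a : Γ(X, W)}
    (ha : IsUnit a) : Twist.IsGen L W (a • g) := by
  intro V hV
  have h1 : (fun c : Γ(X, V) => c • M1.mres L hV (a • g)) =
      (fun c : Γ(X, V) => c • M1.mres L hV g) ∘ fun c => c * ores hV a := by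
    funext c
    show c • M1.mres L hV (a • g) = (c * ores hV a) • M1.mres L hV g
    rw [mres_smul, mul_smul]
  rw [h1]
  exact (hg V hV).comp ((ha.map (ores hV).hom).unit.mulRight_bijective)

variable [IsLocallyNoetherian X] [IsLocallyNoetherian Y] {L : X.Modules} (θ : Theta f L) {η : Y} (hη : IsMax η)
  {U : Y.Opens} (hU : IsAffineOpen U) [IsDomain Γ(Y, U)] [IsIntegrallyClosed Γ(Y, U)] {hηU : η ∈ U}
  (hP : primeAt hU hηU = ⊥)
  (hfib : ∀ y : ↥Y, ringKrullDim ↑(Y.presheaf.stalk y) = 1 → IsIntegral (f.fiber y))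

omit [Flat f] [IsLocallyNoetherian X] [IsLocallyNoetherian Y] [IsDomain Γ(Y, U)] [IsIntegrallyClosed Γ(Y, U)] in
theorem exists_point (P : Ideal Γ(Y, U)) [hPp : P.IsPrime] :
    ∃ (ξ : Y) (hξ : ξ ∈ U), primeAt hU hξ = P ∧ ringKrullDim (Y.presheaf.stalk ξ) = P.height := by
  let ξ := hU.fromSpec ⟨P, hPp⟩
  have hξ : ξ ∈ U := hU.range_fromSpec.le ⟨_, rfl⟩
  have hq : hU.primeIdealOf ⟨ξ, hξ⟩ = ⟨P, hPp⟩ :=
    hU.fromSpec.isOpenEmbedding.injective (hU.fromSpec_primeIdealOf ⟨ξ, hξ⟩)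
  refine ⟨ξ, hξ, by rw [primeAt, hq], ?_⟩
  letI := TopCat.Presheaf.algebra_section_stalk Y.presheaf (⟨ξ, hξ⟩ : U)
  haveI := hU.isLocalization_stalk ⟨ξ, hξ⟩
  rw [IsLocalization.AtPrime.ringKrullDim_eq_height (hU.primeIdealOf ⟨ξ, hξ⟩).asIdeal (Y.presheaf.stalk ξ), hq]

include hU hP hfib in
/-- Values of good generators at two points over `y` differ by a unit near `y`. -/
theorem exists_dvd_mul {W W' : X.Opens} {e : W ≤ f ⁻¹ᵁ U} {e' : W' ≤ f ⁻¹ᵁ U} {g : Γ(L, W)} {g' : Γ(L, W')}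
    {m r m' r' : Γ(Y, U)} (h : Good f θ hη U W e g m r) (h' : Good f θ hη U W' e' g' m' r')
    {x x' : X} (hxW : x ∈ W) (hx'W : x' ∈ W') {y : Y} (hy : y ∈ U) (hx : f x = y) (hx' : f x' = y)
    (hne : m * r' ≠ 0) :
    ∃ s ∉ primeAt hU hy, m * r' ∣ s * (m' * r) := by
  haveI : IsNoetherianRing Γ(Y, U) := IsLocallyNoetherian.component_noetherian ⟨U, hU⟩
  refine dvd_mul_of_forall_height_one _ hne fun P hPp hh hle => ?_
  haveI := hPp
  obtain ⟨ξ, hξU, hξP, hdim⟩ := exists_point hU P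
  subst hξP
  haveI : IsIntegral (f.fiber ξ) := hfib ξ (by rw [hdim, hh]; rfl)
  have hsp : ξ ⤳ y := by
    have h1 : hU.primeIdealOf ⟨ξ, hξU⟩ ⤳ hU.primeIdealOf ⟨y, hy⟩ :=
      (PrimeSpectrum.le_iff_specializes _ _).1 hle
    have h2 := h1.map hU.fromSpec.continuous
    rwa [hU.fromSpec_primeIdealOf, hU.fromSpec_primeIdealOf] at h2
  obtain ⟨z, hzx, hz⟩ := Flat.generalizingMap (f := f) (show ξ ⤳ f x by rw [hx]; exact hsp)
  obtain ⟨z', hzx', hz'⟩ := Flat.generalizingMap (f := f) (show ξ ⤳ f x' by rw [hx']; exact hsp)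
  obtain ⟨w, hw⟩ : z ∈ Set.range (f.fiberι ξ) := by rw [f.range_fiberι]; exact hz
  obtain ⟨w', hw'⟩ : z' ∈ Set.range (f.fiberι ξ) := by rw [f.range_fiberι]; exact hz'
  let x₀ := f.fiberι ξ (genericPoint (f.fiber ξ))
  have hx₀ : x₀ ∈ W ⊓ W' :=
    ⟨((genericPoint_specializes w).map (f.fiberι ξ).continuous).mem_open W.2
        (by rw [hw]; exact hzx.mem_open W.2 hxW),
      ((genericPoint_specializes w').map (f.fiberι ξ).continuous).mem_open W'.2
        (by rw [hw']; exact hzx'.mem_open W'.2 hx'W)⟩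
  have hfx₀ : f x₀ = ξ := (f.range_fiberι ξ).le ⟨_, rfl⟩
  obtain ⟨u, hu⟩ := (h.1 (W ⊓ W') inf_le_left).2 (M1.mres L inf_le_right g')
  have key := Good.smul_eq f θ hη hU hP (h.mres f θ hη inf_le_left) (h'.mres f θ hη inf_le_right) u hu.symm
  refine exists_dvd_of_germ f hU (inf_le_left.trans e) hx₀ hξU hfx₀ _ _ ?_
  rw [← key]
  exact ⟨X.presheaf.germ _ _ hx₀ u, by rw [← map_mul, mul_comm]⟩

include hU hP hfib in
/-- Every point has a good generator nearby. -/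
theorem exists_good (hL : PicF.IsInvertible L) {x : X} (hx : f x ∈ U) :
    ∃ (W : X.Opens) (e : W ≤ f ⁻¹ᵁ U) (g : Γ(L, W)) (m r : Γ(Y, U)),
      x ∈ W ∧ m ≠ 0 ∧ r ≠ 0 ∧ Good f θ hη U W e g m r := by
  obtain ⟨D, g₀, hxD, hg₀⟩ := PicDesc21.exists_gen hL x
  obtain ⟨V, hV, hxV, hVD⟩ := exists_isAffineOpen_mem_and_subset (X := X) (x := x) (U := D ⊓ f ⁻¹ᵁ U) ⟨hxD, hx⟩
  have eV : V ≤ f ⁻¹ᵁ U := fun z hz => (hVD hz).2
  let g := M1.mres L (show V ≤ D from fun z hz => (hVD hz).1) g₀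
  have hg : Twist.IsGen L V g := hg₀.mres _
  obtain ⟨u, hu⟩ := isUnit_τ f θ hη hg
  obtain ⟨b, r, hr, hb⟩ := exists_frac f hU hV eV hηU (u : Γ(f.fiber η, f.fiberι η ⁻¹ᵁ V))
  obtain ⟨b', r', hr', hb'⟩ := exists_frac f hU hV eV hηU (↑u⁻¹ : Γ(f.fiber η, f.fiberι η ⁻¹ᵁ V))
  rw [hP, Ideal.mem_bot] at hr hr'
  haveI : IsNoetherianRing Γ(Y, U) := IsLocallyNoetherian.component_noetherian ⟨U, hU⟩
  letI := (f.appLE U V eV).hom.toAlgebra
  haveI : Module.Flat Γ(Y, U) Γ(X, V) := flat_appLE f hU hV eV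
  have hbb : b * b' = algebraMap Γ(Y, U) Γ(X, V) (r * r') := by
    refine ψ_injective f hU hP eV ?_
    rw [RingHom.algebraMap_toAlgebra]
    simp only [map_mul]
    rw [← hb, ← hb', mul_mul_mul_comm, Units.mul_inv, one_mul]
  obtain ⟨m, δ, hδ, hm, hm0⟩ := exists_eq_mul (R := Γ(Y, U)) (mul_ne_zero hr hr') hbb
    (fun P hPp hh a b hab => by
      haveI := hPp
      obtain ⟨ξ, hξU, hξP, hdim⟩ := exists_point hU P
      subst hξP
      haveI : IsIntegral (f.fiber ξ) := hfib ξ (by rw [hdim, hh]; rfl)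
      exact prime_of_isIntegral f hU hV eV hξU a b hab)
    (primeAt hV hxV)
  have hxδ : x ∈ X.basicOpen δ := by
    rw [Scheme.mem_basicOpen _ _ _ hxV]
    exact isUnit_germ_of_notMem hV hxV hδ
  have hle : X.basicOpen δ ≤ V := X.basicOpen_le δ
  refine ⟨X.basicOpen δ, hle.trans eV, ores hle δ • M1.mres L hle g, m, r, hxδ, hm0, hr,
    isGen_smul (hg.mres hle) (RingedSpace.isUnit_res_basicOpen X.toRingedSpace δ), ?_⟩
  rw [RingHom.algebraMap_toAlgebra] at hm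
  rw [← mres_smul, τ_mres, τ_smul, ← app_appLE f eV hle, ← app_appLE f eV hle, ← map_mul, mul_assoc,
    show τ f θ hη V g * _ = _ from (congrArg (· * _) hu.symm).trans hb, ← map_mul, mul_comm δ b, ← hm]

include hU hP hfib in
/-- Good generators of a given value exist along whole fibres. -/
theorem exists_good_of_fibre (hL : PicF.IsInvertible L) {W : X.Opens} {e : W ≤ f ⁻¹ᵁ U} {g : Γ(L, W)}
    {m r : Γ(Y, U)} (h : Good f θ hη U W e g m r) (hm : m ≠ 0) (hr : r ≠ 0) {x x' : X} (hx : x ∈ W)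
    (hxx' : f x' = f x) :
    ∃ (W' : X.Opens) (e' : W' ≤ f ⁻¹ᵁ U) (g' : Γ(L, W')), x' ∈ W' ∧ Good f θ hη U W' e' g' m r := by
  obtain ⟨W', e', g', m', r', hx', hm', hr', h'⟩ :=
    exists_good f θ hη hU hP hfib hL (x := x') (by rw [hxx']; exact e hx)
  have hne : m * r' ≠ 0 := mul_ne_zero hm hr'
  have hne' : m' * r ≠ 0 := mul_ne_zero hm' hr
  obtain ⟨s, hs, k, hk⟩ := exists_dvd_mul f θ hη hU hP hfib h h' hx hx' (e hx) rfl hxx' hne
  obtain ⟨s', hs', k', hk'⟩ := exists_dvd_mul f θ hη hU hP hfib h' h hx' hx (e hx) hxx' rfl hne'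
  have hkk : s * s' = k * k' := mul_right_cancel₀ (mul_ne_zero hne hne')
    (by linear_combination (m' * r * k') * hk + (s * (m' * r)) * hk')
  have hkn : k ∉ primeAt hU (e hx) := fun hmem =>
    (hU.primeIdealOf ⟨f x, e hx⟩).isPrime.mul_notMem hs hs' (hkk ▸ Ideal.mul_mem_right _ _ hmem)
  have hD : f x ∈ Y.basicOpen (s * k) := by
    rw [Scheme.mem_basicOpen _ _ _ (show f x ∈ U from e hx)]
    exact isUnit_germ_of_notMem hU (e hx) ((hU.primeIdealOf ⟨f x, e hx⟩).isPrime.mul_notMem hs hkn)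
  let W'' : X.Opens := W' ⊓ f ⁻¹ᵁ Y.basicOpen (s * k)
  have e'' : W'' ≤ f ⁻¹ᵁ U := inf_le_left.trans e'
  have hu : IsUnit (f.appLE U W'' e'' (s * k)) := by
    have h1 := (RingedSpace.isUnit_res_basicOpen Y.toRingedSpace (s * k)).map
      (f.appLE (Y.basicOpen (s * k)) W'' inf_le_right).hom
    rwa [← Scheme.Hom.map_appLE f inf_le_right (homOfLE (Y.basicOpen_le (s * k))).op]
  rw [map_mul, IsUnit.mul_iff] at hu
  obtain ⟨hus, huk⟩ := hu
  obtain ⟨uk, huk⟩ := huk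
  refine ⟨W'', e'', (f.appLE U W'' e'' s * ↑uk⁻¹) • M1.mres L inf_le_left g',
    ⟨hx', by show f x' ∈ Y.basicOpen (s * k); rw [hxx']; exact hD⟩, isGen_smul (h'.1.mres _) (hus.mul uk⁻¹.isUnit), ?_⟩
  have h2 := (h'.mres f θ hη (inf_le_left : W'' ≤ W')).2
  let ψ := ((f.fiberι η).app W'').hom
  let φ := (f.appLE U W'' e'').hom
  have hcan : IsUnit (ψ (φ (k * r'))) :=
    isUnit_app_appLE f hU hP e'' (mul_ne_zero (fun h0 => hkn (h0 ▸ zero_mem _)) hr')
  refine hcan.mul_right_cancel ?_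
  rw [τ_smul]
  show ψ (φ s * ↑uk⁻¹) * τ f θ hη W'' (M1.mres L inf_le_left g') * ψ (φ r) * ψ (φ (k * r')) =
    ψ (φ m) * ψ (φ (k * r'))
  have h3 : ψ ↑uk⁻¹ * ψ (φ k) = 1 := by
    rw [← map_mul, show φ k = (uk : Γ(X, W'')) from huk.symm, Units.inv_mul, map_one]
  have h4 : τ f θ hη W'' (M1.mres L inf_le_left g') * ψ (φ r') = ψ (φ m') := h2
  have h5 : ψ (φ (s * (m' * r))) = ψ (φ (m * r' * k)) := by rw [hk]
  simp only [map_mul] at h5 ⊢
  linear_combination (ψ (φ s) * τ f θ hη W'' (M1.mres L inf_le_left g') * ψ (φ r) * ψ (φ r')) * h3 +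
    (ψ (φ s) * ψ (φ r)) * h4 + h5

include hU hP hfib in
/-- A generator over a neighbourhood in the base with constant value on the generic fibre. -/
theorem exists_good_over (hL : PicF.IsInvertible L) [Surjective f] (hf : QuasiCompact f ∨ IsOpenMap f)
    {y : Y} (hy : y ∈ U) :
    ∃ (U' : Y.Opens) (hU'U : U' ≤ U) (g : Γ(L, f ⁻¹ᵁ U')) (m r : Γ(Y, U)),
      y ∈ U' ∧ m ≠ 0 ∧ r ≠ 0 ∧ Good f θ hη U (f ⁻¹ᵁ U') (f.preimage_mono hU'U) g m r := by
  obtain ⟨x, hx⟩ := f.surjective y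
  subst hx
  obtain ⟨W₀, e₀, g₀, m, r, hxW₀, hm, hr, h₀⟩ := exists_good f θ hη hU hP hfib hL (x := x) hy
  let O : Set X := {z | ∃ (W : X.Opens) (e : W ≤ f ⁻¹ᵁ U) (g : Γ(L, W)), z ∈ W ∧ Good f θ hη U W e g m r}
  have hO : IsOpen O := isOpen_iff_forall_mem_open.2 fun z ⟨W, e, g, hz, h⟩ =>
    ⟨W, fun z' hz' => ⟨W, e, g, hz', h⟩, W.2, hz⟩
  have hsat : f ⁻¹' (f '' O) = O := by
    refine Set.Subset.antisymm ?_ (Set.subset_preimage_image f O)
    rintro z ⟨z₀, ⟨W, e, g, hz₀, h⟩, hzz⟩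
    exact exists_good_of_fibre f θ hη hU hP hfib hL h hm hr hz₀ hzz.symm
  have hq : Topology.IsQuotientMap f := by
    rcases hf with hqc | hop
    · exact Flat.isQuotientMap_of_surjective f
    · exact hop.isQuotientMap f.continuous f.surjective
  let U' : Y.Opens := ⟨f '' O, hq.isOpen_preimage.1 (hsat.symm ▸ hO)⟩
  have hU'U : U' ≤ U := by
    rintro _ ⟨z, ⟨W, e, g, hz, -⟩, rfl⟩
    exact e hz
  have hpre : ∀ z : ↥(f ⁻¹ᵁ U'), ∃ (W : X.Opens) (e : W ≤ f ⁻¹ᵁ U) (g : Γ(L, W)),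
      z.1 ∈ W ∧ W ≤ f ⁻¹ᵁ U' ∧ Good f θ hη U W e g m r := fun z => by
    have hz : z.1 ∈ O := hsat.le z.2
    obtain ⟨W, e, g, hz, h⟩ := hz
    exact ⟨W, e, g, hz, fun z' hz' => ⟨z', ⟨W, e, g, hz', h⟩, rfl⟩, h⟩
  choose W e g hzW hWU' hgood using hpre
  have huniq : ∀ (V : X.Opens) (eV : V ≤ f ⁻¹ᵁ U) (g₁ g₂ : Γ(L, V)),
      Good f θ hη U V eV g₁ m r → Good f θ hη U V eV g₂ m r → g₁ = g₂ := by
    intro V eV g₁ g₂ h₁ h₂
    obtain ⟨a, ha⟩ := (h₁.1 V le_rfl).2 g₂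
    simp only [mres_id] at ha
    have h3 := h₂.2
    rw [← ha, τ_smul, mul_assoc, h₁.2] at h3
    have ha1 : a = 1 := ψ_injective f hU hP eV
      ((isUnit_app_appLE f hU hP eV hm).mul_right_cancel (by rw [map_one, one_mul, h3]))
    rw [← ha, ha1, one_smul]
  obtain ⟨G, hG, -⟩ := TopCat.Sheaf.existsUnique_gluing' ⟨_, L.isSheaf⟩ W (f ⁻¹ᵁ U')
    (fun z => homOfLE (hWU' z)) (fun z hz => Opens.mem_iSup.2 ⟨⟨z, hz⟩, hzW ⟨z, hz⟩⟩) g fun z z' => by
      show M1.mres L (inf_le_left : W z ⊓ W z' ≤ W z) (g z) = M1.mres L (inf_le_right : W z ⊓ W z' ≤ W z') (g z')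
      exact huniq _ (inf_le_left.trans (e z)) _ _ ((hgood z).mres f θ hη inf_le_left)
        ((hgood z').mres f θ hη inf_le_right)
  have hG' : ∀ z, M1.mres L (hWU' z) G = g z := hG
  refine ⟨U', hU'U, G, m, r, ⟨x, ⟨W₀, e₀, g₀, hxW₀, h₀⟩, rfl⟩, hm, hr, ?_, ?_⟩
  · refine Twist.isGen_of_stalk fun z hz => ?_
    have h1 := (hgood ⟨z, hz⟩).1.stalk (hzW ⟨z, hz⟩)
    rwa [← hG' ⟨z, hz⟩, germ_mres] at h1
  · refine TopCat.Presheaf.section_ext (f.fiber η).sheaf _ _ _ fun w hw => ?_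
    let z : ↥(f ⁻¹ᵁ U') := ⟨f.fiberι η w, hw⟩
    have h1 := (hgood z).2
    rw [← hG' z, τ_mres, ← app_appLE f (f.preimage_mono hU'U) (hWU' z),
      ← app_appLE f (f.preimage_mono hU'U) (hWU' z), ← map_mul] at h1
    have h2 := congrArg ((f.fiber η).presheaf.germ _ w (hzW z)) h1
    erw [(f.fiber η).presheaf.germ_res_apply, (f.fiber η).presheaf.germ_res_apply] at h2
    exact h2

end Groth.Agent.DescTriv11
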