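import Mathlib.AlgebraicGeometry.Fiber
import Mathlib.AlgebraicGeometry.AffineScheme
import Mathlib.RingTheory.Localization.AtPrime.Basic

/-!
# Residue fields as fractions of sections (light imports)
-/

universe u

open CategoryTheory CategoryTheory.Limits AlgebraicGeometry TopologicalSpace

set_option backward.isDefEq.respectTransparency false
set_option backward.isDefEq.respectTransparency.types false
set_option linter.style.haveILetI false

namespace Groth.Agent.DescTriv11

/-- Elements of a residue field are fractions of sections over an affine neighbourhood. -/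
theorem exists_frac_residueField {S : Scheme.{u}} {V : S.Opens} (hV : IsAffineOpen V) {s : S} (hs : s ∈ V)
    (w : Γ(Spec (S.residueField s), ⊤)) :
    ∃ a a' : Γ(S, V), s ∈ S.basicOpen a ∧
      (S.fromSpecResidueField s).appLE V ⊤ (fun x _ => by
          show S.fromSpecResidueField s x ∈ V
          rw [Scheme.fromSpecResidueField_apply]; exact hs) a * w =
        (S.fromSpecResidueField s).appLE V ⊤ (fun x _ => by
          show S.fromSpecResidueField s x ∈ V
          rw [Scheme.fromSpecResidueField_apply]; exact hs) a' := by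
  have key : ∀ (hle : (⊤ : (Spec (S.residueField s)).Opens) ≤ S.fromSpecResidueField s ⁻¹ᵁ V),
      (S.fromSpecResidueField s).appLE V ⊤ hle = S.evaluation V s hs ≫ (Scheme.ΓSpecIso (S.residueField s)).inv := by
    intro hle
    rw [Scheme.Hom.appLE]
    simp only [Scheme.fromSpecResidueField, Scheme.Hom.comp_app, Scheme.fromSpecStalk_app hs, Category.assoc]
    rw [Scheme.Hom.naturality_assoc, Scheme.ΓSpecIso_inv_naturality_assoc, ← Scheme.germ_residue, Category.assoc]
    simp [← Functor.map_comp]
    congr 1
  simp only [key]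
  obtain ⟨t, ht⟩ := S.residue_surjective s ((Scheme.ΓSpecIso (S.residueField s)).hom w)
  letI := TopCat.Presheaf.algebra_section_stalk S.presheaf (⟨s, hs⟩ : V)
  haveI := hV.isLocalization_stalk ⟨s, hs⟩
  obtain ⟨⟨a', a⟩, h⟩ := IsLocalization.surj (hV.primeIdealOf ⟨s, hs⟩).asIdeal.primeCompl t
  refine ⟨a, a', ?_, ?_⟩
  · rw [Scheme.mem_basicOpen _ _ _ hs]
    exact IsLocalization.map_units (S.presheaf.stalk s) a
  · apply (Scheme.ΓSpecIso (S.residueField s)).commRingCatIsoToRingEquiv.injective
    show (Scheme.ΓSpecIso (S.residueField s)).hom _ = (Scheme.ΓSpecIso (S.residueField s)).hom _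
    rw [map_mul, CommRingCat.comp_apply, CommRingCat.comp_apply, Iso.inv_hom_id_apply, Iso.inv_hom_id_apply, ← ht]
    show S.residue s (algebraMap Γ(S, V) (S.presheaf.stalk s) a) * S.residue s t =
      S.residue s (algebraMap Γ(S, V) (S.presheaf.stalk s) a')
    rw [← map_mul, mul_comm]
    exact congrArg _ h

theorem le_preimage_fiberι {N S : Scheme.{u}} (h : N ⟶ S) {V : S.Opens} {s : S} (hs : s ∈ V) :
    (⊤ : (h.fiber s).Opens) ≤ h.fiberι s ⁻¹ᵁ (h ⁻¹ᵁ V) := fun x _ => by
  show h (h.fiberι s x) ∈ V
  rw [show h (h.fiberι s x) = s from (h.range_fiberι s).le ⟨x, rfl⟩]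
  exact hs

end Groth.Agent.DescTriv11
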