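import Groth.Agent.Lib.DivDesc12.Fibre
import Groth.Agent.Lib.DescTriv11.ResField
import Groth.Agent.Lib.FlatH4.PullChart

/-!
# Functions on fibres over affine charts
-/

universe u

set_option linter.style.haveILetI false
set_option backward.isDefEq.respectTransparency false

open CategoryTheory Limits AlgebraicGeometry TopologicalSpace

namespace Groth.Agent.DescTriv11

variable {X Y : Scheme.{u}} (f : X ⟶ Y) {U : Y.Opens} (hU : IsAffineOpen U) {V : X.Opens}
  (hV : IsAffineOpen V) (e : V ≤ f ⁻¹ᵁ U) {y : Y} (hy : y ∈ U)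

/-- The prime of a point in an affine open. -/
noncomputable abbrev primeAt : Ideal Γ(Y, U) := (hU.primeIdealOf ⟨y, hy⟩).asIdeal

theorem germ_mem_maximal_iff (r : Γ(Y, U)) :
    Y.presheaf.germ U y hy r ∈ IsLocalRing.maximalIdeal (Y.presheaf.stalk y) ↔ r ∈ primeAt hU hy := by
  letI := TopCat.Presheaf.algebra_section_stalk Y.presheaf (⟨y, hy⟩ : U)
  haveI := hU.isLocalization_stalk ⟨y, hy⟩
  exact IsLocalization.AtPrime.to_map_mem_maximal_iff (Y.presheaf.stalk y) (primeAt hU hy) r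

theorem isUnit_germ_of_notMem {r : Γ(Y, U)} (hr : r ∉ primeAt hU hy) : IsUnit (Y.presheaf.germ U y hy r) := by
  by_contra h
  exact hr ((germ_mem_maximal_iff hU hy r).1 h)

theorem germ_appLE {x : X} (hxV : x ∈ V) (h : f x ⤳ y) (r : Γ(Y, U)) :
    X.presheaf.germ V x hxV (f.appLE U V e r) = DivDesc12.σ f x h (Y.presheaf.germ U y hy r) := by
  rw [DivDesc12.σ_germ, Scheme.Hom.appLE, CommRingCat.comp_apply, TopCat.Presheaf.germ_res_apply]

include hV in
/-- The functions of `V` vanishing on the fibre over `y`. -/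
theorem app_fiberι_eq_zero_iff (z : Γ(X, V)) :
    (f.fiberι y).app V z = 0 ↔
      ∃ s ∉ primeAt hU hy, f.appLE U V e s * z ∈ (primeAt hU hy).map (f.appLE U V e).hom := by
  constructor
  · intro hz
    by_contra! hcon
    let φ := (f.appLE U V e).hom
    let J : Ideal Γ(X, V) := Submodule.comap (LinearMap.mulRight Γ(X, V) z) ((primeAt hU hy).map φ)
    let S : Submonoid Γ(X, V) := (primeAt hU hy).primeCompl.map φ
    have hdis : Disjoint (J : Set Γ(X, V)) S := by
      rw [Set.disjoint_left]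
      rintro a ha ⟨s, hs, rfl⟩
      exact hcon s hs ha
    obtain ⟨q, hq, hJq, hqS⟩ := Ideal.exists_le_prime_disjoint J S hdis
    have hPA : (primeAt hU hy).map φ ≤ q := le_trans (fun a ha => Ideal.mul_mem_right z _ ha) hJq
    have hcomap : q.comap φ = primeAt hU hy := by
      refine le_antisymm (fun r hr => ?_) (Ideal.map_le_iff_le_comap.1 hPA)
      by_contra hr'
      exact Set.disjoint_left.1 hqS (Ideal.mem_comap.1 hr) ⟨r, hr', rfl⟩
    let x := hV.fromSpec ⟨q, hq⟩
    have hxV : x ∈ V := hV.range_fromSpec.le ⟨_, rfl⟩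
    have hq' : hV.primeIdealOf ⟨x, hxV⟩ = ⟨q, hq⟩ :=
      hV.fromSpec.isOpenEmbedding.injective (hV.fromSpec_primeIdealOf ⟨x, hxV⟩)
    have hprime : hU.primeIdealOf ⟨f x, e hxV⟩ = hU.primeIdealOf ⟨y, hy⟩ := by
      have h1 := IsAffineOpen.comap_primeIdealOf_appLE (f := f) (x := x) U hU V hV e hxV
      rw [hq'] at h1
      exact h1.symm.trans (PrimeSpectrum.ext hcomap)
    have hfx : f x = y := by
      have h2 := congrArg hU.fromSpec hprime
      rwa [hU.fromSpec_primeIdealOf, hU.fromSpec_primeIdealOf] at h2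
    obtain ⟨w, hw⟩ : ∃ w, f.fiberι y w = x := by
      have : x ∈ Set.range (f.fiberι y) := by rw [f.range_fiberι]; exact hfx
      exact this
    have key : ∀ (x' : X) (hx' : x' ∈ V), x' = f.fiberι y w → ∀ (h : f x' ⤳ y),
        X.presheaf.germ V x' hx' z ∈ (IsLocalRing.maximalIdeal (Y.presheaf.stalk y)).map (DivDesc12.σ f x' h) := by
      rintro _ hx' rfl h
      refine (DivDesc12.stalkMap_fiberι_eq_zero_iff f x hfx (specializes_of_eq hfx) w hw _).1 ?_
      rw [Scheme.Hom.germ_stalkMap_apply, hz, map_zero]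
    have hmem := key x hxV hw.symm (specializes_of_eq hfx)
    letI := TopCat.Presheaf.algebra_section_stalk X.presheaf (⟨x, hxV⟩ : V)
    haveI : IsLocalization.AtPrime (X.presheaf.stalk x) q := by
      have := hV.isLocalization_stalk ⟨x, hxV⟩
      rwa [hq'] at this
    letI := TopCat.Presheaf.algebra_section_stalk Y.presheaf (⟨y, hy⟩ : U)
    haveI := hU.isLocalization_stalk ⟨y, hy⟩
    rw [← IsLocalization.AtPrime.map_eq_maximalIdeal (primeAt hU hy) (Y.presheaf.stalk y), Ideal.map_map] at hmem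
    have hcomp : (DivDesc12.σ f x (specializes_of_eq hfx)).comp (algebraMap Γ(Y, U) (Y.presheaf.stalk y)) =
        (algebraMap Γ(X, V) (X.presheaf.stalk x)).comp φ :=
      RingHom.ext fun r => (germ_appLE f e hy hxV (specializes_of_eq hfx) r).symm
    rw [hcomp, ← Ideal.map_map] at hmem
    obtain ⟨m, hm, hmz⟩ := (IsLocalization.algebraMap_mem_map_algebraMap_iff q.primeCompl (X.presheaf.stalk x) _ z).1 hmem
    exact hm (hJq hmz)
  · rintro ⟨s, hs, hsz⟩
    refine TopCat.Presheaf.section_ext (f.fiber y).sheaf _ _ _ fun w hw => ?_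
    refine Eq.trans ?_ (map_zero _).symm
    have hfx : f (f.fiberι y w) = y := (f.range_fiberι y).le ⟨w, rfl⟩
    refine ((f.fiberι y).germ_stalkMap_apply V w hw z).symm.trans ?_
    refine (DivDesc12.stalkMap_fiberι_eq_zero_iff f _ hfx (specializes_of_eq hfx) w rfl _).2 ?_
    have hu : IsUnit (X.presheaf.germ V (f.fiberι y w) hw (f.appLE U V e s)) := by
      rw [germ_appLE f e hy hw (specializes_of_eq hfx) s]
      exact (isUnit_germ_of_notMem hU hy hs).map _
    rw [← Ideal.unit_mul_mem_iff_mem _ hu, ← map_mul]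
    have h1 := Ideal.mem_map_of_mem (X.presheaf.germ V (f.fiberι y w) hw).hom hsz
    rw [Ideal.map_map] at h1
    refine (Ideal.map_le_iff_le_comap.2 fun p hp => ?_ : Ideal.map _ _ ≤ _) h1
    rw [Ideal.mem_comap]
    show X.presheaf.germ V (f.fiberι y w) hw (f.appLE U V e p) ∈
      (IsLocalRing.maximalIdeal (Y.presheaf.stalk y)).map (DivDesc12.σ f (f.fiberι y w) (specializes_of_eq hfx))
    rw [germ_appLE f e hy hw (specializes_of_eq hfx) p]
    exact Ideal.mem_map_of_mem _ ((germ_mem_maximal_iff hU hy p).2 hp)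

include hV in
/-- An integral fibre: the functions of `V` vanishing on it form a prime or the unit ideal. -/
theorem prime_of_isIntegral [IsIntegral (f.fiber y)] (a b : Γ(X, V))
    (hab : ∃ s ∉ primeAt hU hy, f.appLE U V e s * (a * b) ∈ (primeAt hU hy).map (f.appLE U V e).hom) :
    (∃ s ∉ primeAt hU hy, f.appLE U V e s * a ∈ (primeAt hU hy).map (f.appLE U V e).hom) ∨
      (∃ s ∉ primeAt hU hy, f.appLE U V e s * b ∈ (primeAt hU hy).map (f.appLE U V e).hom) := by
  rw [← app_fiberι_eq_zero_iff (hV := hV) f hU e hy] at hab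
  rw [← app_fiberι_eq_zero_iff (hV := hV) f hU e hy, ← app_fiberι_eq_zero_iff (hV := hV) f hU e hy]
  rw [map_mul] at hab
  rcases isEmpty_or_nonempty (f.fiberι y ⁻¹ᵁ V) with h | h
  · left
    exact TopCat.Presheaf.section_ext (f.fiber y).sheaf _ _ _ fun w hw => (h.false ⟨w, hw⟩).elim
  · exact mul_eq_zero.1 hab

include hU hV in
/-- Functions on the fibre are fractions. -/
theorem exists_frac (σ : Γ(f.fiber y, f.fiberι y ⁻¹ᵁ V)) :
    ∃ (a : Γ(X, V)) (s : Γ(Y, U)), s ∉ primeAt hU hy ∧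
      σ * (f.fiberι y).app V (f.appLE U V e s) = (f.fiberι y).app V a := by
  have hle : (⊤ : (Spec (Y.residueField y)).Opens) ≤ Y.fromSpecResidueField y ⁻¹ᵁ U := fun x _ => by
    show Y.fromSpecResidueField y x ∈ U
    rw [Scheme.fromSpecResidueField_apply]; exact hy
  have hUY : f.fiberι y ⁻¹ᵁ V = f.fiberι y ⁻¹ᵁ V ⊓ f.fiberToSpecResidueField y ⁻¹ᵁ ⊤ :=
    (inf_eq_left.2 le_top).symm
  have P : IsPushout (f.appLE U V e) ((Y.fromSpecResidueField y).appLE U ⊤ hle)
      ((f.fiberι y).appLE V (f.fiberι y ⁻¹ᵁ V) le_rfl)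
      ((f.fiberToSpecResidueField y).appLE ⊤ (f.fiberι y ⁻¹ᵁ V) le_top) :=
    FlatH4.isPushout_sections (IsPullback.of_hasPullback f (Y.fromSpecResidueField y)) hle e hUY hU
      (isAffineOpen_top _) hV
  have hψ : ∀ c, (f.fiberι y).appLE V (f.fiberι y ⁻¹ᵁ V) le_rfl c = (f.fiberι y).app V c := fun c => by
    rw [← Scheme.Hom.app_eq_appLE]
  let ψ := ((f.fiberι y).app V).hom
  let κ := ((f.fiberToSpecResidueField y).appLE ⊤ (f.fiberι y ⁻¹ᵁ V) le_top).hom
  let φ := (f.appLE U V e).hom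
  have hone : (1 : Γ(Y, U)) ∉ primeAt hU hy := fun h =>
    (hU.primeIdealOf ⟨y, hy⟩).isPrime.ne_top ((Ideal.eq_top_iff_one _).2 h)
  let T : Subring Γ(f.fiber y, f.fiberι y ⁻¹ᵁ V) :=
    { carrier := {z | ∃ (a : Γ(X, V)) (s : Γ(Y, U)), s ∉ primeAt hU hy ∧ z * ψ (φ s) = ψ a}
      mul_mem' := by
        rintro p q ⟨a, s, hs, hp⟩ ⟨b, t, ht, hq⟩
        refine ⟨a * b, s * t, (hU.primeIdealOf ⟨y, hy⟩).isPrime.mul_notMem hs ht, ?_⟩
        simp only [map_mul, ← hp, ← hq]; ring
      one_mem' := ⟨1, 1, hone, by simp⟩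
      add_mem' := by
        rintro p q ⟨a, s, hs, hp⟩ ⟨b, t, ht, hq⟩
        refine ⟨a * φ t + b * φ s, s * t, (hU.primeIdealOf ⟨y, hy⟩).isPrime.mul_notMem hs ht, ?_⟩
        simp only [map_mul, map_add, ← hp, ← hq]; ring
      zero_mem' := ⟨0, 1, hone, by simp⟩
      neg_mem' := by
        rintro p ⟨a, s, hs, hp⟩
        exact ⟨-a, s, hs, by rw [neg_mul, hp, map_neg]⟩ }
  have h1 : ∀ b, ψ b ∈ T := fun b => ⟨b, 1, hone, by simp⟩
  have h2 : ∀ w, κ w ∈ T := fun w => by
    obtain ⟨r, r', hr, hrw⟩ := DescTriv11.exists_frac_residueField hU hy w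
    refine ⟨φ r', r, fun hmem => ?_, ?_⟩
    · rw [Scheme.mem_basicOpen _ _ _ hy] at hr
      exact (germ_mem_maximal_iff hU hy r).2 hmem hr
    · have hc : ∀ c, ψ (φ c) = κ ((Y.fromSpecResidueField y).appLE U ⊤ hle c) := fun c =>
        (hψ _).symm.trans (DFunLike.congr_fun (congrArg CommRingCat.Hom.hom P.w) c)
      rw [hc, hc, ← map_mul, mul_comm, hrw]
  let dι : Γ(X, V) ⟶ CommRingCat.of T := CommRingCat.ofHom (ψ.codRestrict T h1)
  let dκ : Γ(Spec (Y.residueField y), ⊤) ⟶ CommRingCat.of T := CommRingCat.ofHom (κ.codRestrict T h2)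
  have hw : f.appLE U V e ≫ dι = (Y.fromSpecResidueField y).appLE U ⊤ hle ≫ dκ :=
    CommRingCat.hom_ext (RingHom.ext fun c => Subtype.ext
      ((hψ _).symm.trans (DFunLike.congr_fun (congrArg CommRingCat.Hom.hom P.w) c)))
  have hid : P.desc dι dκ hw ≫ CommRingCat.ofHom T.subtype = 𝟙 _ := by
    apply P.hom_ext
    · rw [← Category.assoc, P.inl_desc, Category.comp_id]
      exact CommRingCat.hom_ext (RingHom.ext fun c => (hψ c).symm)
    · rw [← Category.assoc, P.inr_desc, Category.comp_id]; rfl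
  have hσ : (((P.desc dι dκ hw).hom σ : T) : Γ(f.fiber y, f.fiberι y ⁻¹ᵁ V)) = σ :=
    DFunLike.congr_fun (congrArg CommRingCat.Hom.hom hid) σ
  have hmem : σ ∈ T := hσ ▸ ((P.desc dι dκ hw).hom σ).2
  exact hmem

end Groth.Agent.DescTriv11
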