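import Groth.Agent.Lib.DescTriv11.Desc
import Groth.Agent.Lib.PicThick4.Glue

/-!
# An invertible module trivial on the maximal fibres descends to a normal base
-/

universe u

set_option linter.style.haveILetI false
set_option backward.isDefEq.respectTransparency false

open CategoryTheory AlgebraicGeometry TopologicalSpace

namespace Groth.Agent.DescTriv11

open Groth.Agent.M1

variable {X Y : Scheme.{u}} (f : X ⟶ Y) [Flat f] [IsLocallyNoetherian Y] {L : X.Modules} (θ : Theta f L)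

/-- A generator over an open of the base with constant values on the maximal fibres. -/
def Adm (U' : Y.Opens) (g : Γ(L, f ⁻¹ᵁ U')) : Prop :=
  Twist.IsGen L (f ⁻¹ᵁ U') g ∧
    ∀ (U : Y.Opens) (hU : IsAffineOpen U) (_ : IsDomain Γ(Y, U)) (η : Y) (hη : IsMax η) (hηU : η ∈ U)
      (_ : primeAt hU hηU = ⊥) (h : U ≤ U'), ∃ m r : Γ(Y, U), m ≠ 0 ∧ r ≠ 0 ∧
        Good f θ hη U (f ⁻¹ᵁ U) le_rfl (M1.mres L (f.preimage_mono h) g) m r

theorem exists_adm [IsLocallyNoetherian X] [Surjective f] (hY : Pi1.IsNormalScheme Y) (hf : QuasiCompact f ∨ IsOpenMap f)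
    (hfib : ∀ y : ↥Y, ringKrullDim ↑(Y.presheaf.stalk y) = 1 → IsIntegral (f.fiber y))
    (hL : PicF.IsInvertible L) (y : Y) :
    ∃ (U' : Y.Opens) (g : Γ(L, f ⁻¹ᵁ U')), y ∈ U' ∧ Adm f θ U' g := by
  obtain ⟨U, hU, hyU, -, hdom, hic⟩ := exists_chart hY ⊤ (y := y) trivial
  haveI := hdom
  haveI := hic
  obtain ⟨η, hηU, hη, hP, huniq⟩ := exists_generic hU
  obtain ⟨U', hU'U, g, m, r, hyU', hm, hr, hgood⟩ := exists_good_over f θ hη hU hP hfib hL hf hyU
  refine ⟨U', g, hyU', hgood.1, fun U₀ hU₀ hdom₀ η₀ hη₀ hη₀U hP₀ h => ?_⟩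
  haveI := hdom₀
  obtain rfl := huniq η₀ ((h.trans hU'U) hη₀U) hη₀
  have hne : ∀ a : Γ(Y, U), a ≠ 0 → ores (h.trans hU'U) a ≠ 0 := fun a ha h0 => by
    have h1 := isUnit_germ_of_notMem hU ((h.trans hU'U) hη₀U) (r := a) (by rw [hP]; simpa using ha)
    rw [← Y.presheaf.germ_res_apply (homOfLE (h.trans hU'U)) η₀ hη₀U] at h1
    exact not_isUnit_zero (M₀ := Y.presheaf.stalk η₀) (by simpa [h0] using h1)
  refine ⟨ores (h.trans hU'U) m, ores (h.trans hU'U) r, hne m hm, hne r hr, hgood.1.mres _, ?_⟩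
  have hres : ∀ a : Γ(Y, U), f.appLE U₀ (f ⁻¹ᵁ U₀) le_rfl (ores (h.trans hU'U) a) =
      f.appLE U (f ⁻¹ᵁ U₀) (f.preimage_mono (h.trans hU'U)) a :=
    fun a => ConcreteCategory.congr_hom (Scheme.Hom.map_appLE f le_rfl (homOfLE (h.trans hU'U)).op) a
  rw [hres, hres]
  exact (hgood.mres f θ hη (f.preimage_mono h)).2

/-- A function is a constant as soon as it is locally. -/
theorem exists_app_eq_of_locally [Surjective f] (T : Y.Opens) (a : Γ(X, f ⁻¹ᵁ T))
    (h : ∀ y ∈ T, ∃ (U : Y.Opens) (hUT : U ≤ T), y ∈ U ∧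
      ∃ c : Γ(Y, U), f.app U c = ores (f.preimage_mono hUT) a) :
    ∃ c : Γ(Y, T), f.app T c = a := by
  choose U hUT hyU c hc using h
  have hres : ∀ (V W : Y.Opens) (i : W ≤ V) (z : Γ(Y, V)),
      f.app W (ores i z) = ores (f.preimage_mono i) (f.app V z) := fun V W i z =>
    ConcreteCategory.congr_hom (f.naturality (homOfLE i).op) z
  obtain ⟨C, hC, -⟩ := TopCat.Sheaf.existsUnique_gluing' Y.sheaf (fun y : T => U y.1 y.2) T
    (fun y => homOfLE (hUT y.1 y.2)) (fun y hy => Opens.mem_iSup.2 ⟨⟨y, hy⟩, hyU y hy⟩)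
    (fun y => c y.1 y.2) fun y y' => by
      show ores (inf_le_left : U y.1 y.2 ⊓ U y'.1 y'.2 ≤ U y.1 y.2) (c y.1 y.2) =
        ores (inf_le_right : U y.1 y.2 ⊓ U y'.1 y'.2 ≤ U y'.1 y'.2) (c y'.1 y'.2)
      refine app_injective f _ ?_
      rw [hres, hres, hc, hc, ores_ores, ores_ores]
  refine ⟨C, ?_⟩
  refine TopCat.Presheaf.section_ext X.sheaf _ _ _ fun x hx => ?_
  have h1 : f.app (U (f x) hx) (ores (hUT (f x) hx) (C : Γ(Y, T))) = ores (f.preimage_mono (hUT (f x) hx)) a :=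
    (congrArg (f.app (U (f x) hx)) (hC ⟨f x, hx⟩)).trans (hc (f x) hx)
  rw [hres] at h1
  have h2 := congrArg (X.presheaf.germ (f ⁻¹ᵁ U (f x) hx) x (hyU (f x) hx)) h1
  erw [X.presheaf.germ_res_apply, X.presheaf.germ_res_apply] at h2
  exact h2

/-- Admissible generators differ by functions on the base. -/
theorem Adm.exists_transition [Surjective f] (hY : Pi1.IsNormalScheme Y) {U₁ U₂ : Y.Opens}
    {g₁ : Γ(L, f ⁻¹ᵁ U₁)} {g₂ : Γ(L, f ⁻¹ᵁ U₂)} (h₁ : Adm f θ U₁ g₁) (h₂ : Adm f θ U₂ g₂) :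
    ∃ c : Γ(Y, U₁ ⊓ U₂), M1.mres L (f.preimage_mono inf_le_right) g₂ =
      f.app (U₁ ⊓ U₂) c • M1.mres L (f.preimage_mono inf_le_left) g₁ := by
  obtain ⟨a, ha⟩ := (h₁.1 (f ⁻¹ᵁ (U₁ ⊓ U₂)) (f.preimage_mono inf_le_left)).2
    (M1.mres L (f.preimage_mono inf_le_right) g₂)
  suffices ∃ c : Γ(Y, U₁ ⊓ U₂), f.app (U₁ ⊓ U₂) c = a by
    obtain ⟨c, rfl⟩ := this
    exact ⟨c, ha.symm⟩
  refine exists_app_eq_of_locally f _ a fun y hy => ?_
  obtain ⟨U, hU, hyU, hUT, hdom, -⟩ := exists_chart hY (U₁ ⊓ U₂) hy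
  haveI := hdom
  obtain ⟨η, hηU, hη, hP, -⟩ := exists_generic hU
  obtain ⟨m, r, hm, hr, hG⟩ := h₁.2 U hU hdom η hη hηU hP (hUT.trans inf_le_left)
  obtain ⟨m', r', hm', hr', hG'⟩ := h₂.2 U hU hdom η hη hηU hP (hUT.trans inf_le_right)
  let α := ores (f.preimage_mono hUT) a
  have hα : M1.mres L (f.preimage_mono (hUT.trans inf_le_right)) g₂ =
      α • M1.mres L (f.preimage_mono (hUT.trans inf_le_left)) g₁ := by
    have h3 := congrArg (M1.mres L (f.preimage_mono hUT)) ha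
    simp only [mres_smul, mres_mres] at h3
    exact h3.symm
  have key := Good.smul_eq f θ hη hU hP hG hG' α hα
  obtain ⟨c, hc⟩ : m * r' ∣ m' * r := by
    have htop : col (m * r') (m' * r) = ⊤ := by
      by_contra hne
      obtain ⟨M, hM, hle⟩ := Ideal.exists_le_maximal _ hne
      haveI := hM.isPrime
      obtain ⟨y', hy', hy'M, -⟩ := exists_point hU M
      obtain ⟨x, hx⟩ := f.surjective y'
      subst hx
      obtain ⟨s, hs, hdvd⟩ := exists_dvd_of_germ f hU (le_refl (f ⁻¹ᵁ U)) (x := x) hy' hy' rfl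
        (m' * r) (m * r') (by rw [← key]; exact ⟨X.presheaf.germ _ x hy' α, by rw [← map_mul, mul_comm]⟩)
      refine hs (hy'M ▸ hle (mem_col.2 ?_))
      exact dvd_trans hdvd (dvd_of_eq (mul_comm _ _))
    have h4 := mem_col.1 ((Ideal.eq_top_iff_one _).1 htop)
    rwa [mul_one] at h4
  refine ⟨U, hUT, hyU, c, ?_⟩
  have key2 : f.appLE U (f ⁻¹ᵁ U) le_rfl (m * r') * α =
      f.appLE U (f ⁻¹ᵁ U) le_rfl (m * r') * f.appLE U (f ⁻¹ᵁ U) le_rfl c := by
    rw [← map_mul, mul_comm, key, hc]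
  refine ψ_injective f hU hP le_rfl
    ((isUnit_app_appLE f hU hP le_rfl (mul_ne_zero hm hr')).mul_left_cancel ?_)
  rw [← map_mul, ← map_mul, show f.app U c = f.appLE U (f ⁻¹ᵁ U) le_rfl c from by rw [Scheme.Hom.app_eq_appLE]]
  exact congrArg _ key2.symm

/-- An invertible module trivial on the maximal fibres of a faithfully flat morphism to a normal
scheme descends, if the fibres over points of codimension one are integral. -/
theorem exists_descent [IsLocallyNoetherian X] [Surjective f] (hY : Pi1.IsNormalScheme Y) (hf : QuasiCompact f ∨ IsOpenMap f)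
    (hfib : ∀ y : ↥Y, ringKrullDim ↑(Y.presheaf.stalk y) = 1 → IsIntegral (f.fiber y))
    (hL : PicF.IsInvertible L) (θ : Theta f L) :
    ∃ M : Y.Modules, PicF.IsInvertible M ∧ Nonempty ((Scheme.Modules.pullback f).obj M ≅ L) := by
  choose V g hyV hadm using exists_adm f θ hY hf hfib hL
  choose c hc using fun i j => Adm.exists_transition f θ hY (hadm i) (hadm j)
  have hres : ∀ (A B : Y.Opens) (i : B ≤ A) (z : Γ(Y, A)),
      f.app B (PicThick4.rs i z) = ores (f.preimage_mono i) (f.app A z) := fun A B i z =>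
    ConcreteCategory.congr_hom (f.naturality (homOfLE i).op) z
  have hrel : ∀ (i j : Y) (U : Y.Opens) (hi : U ≤ V i) (hj : U ≤ V j),
      M1.mres L (f.preimage_mono hj) (g j) =
        f.app U (PicThick4.rs (le_inf hi hj) (c i j)) • M1.mres L (f.preimage_mono hi) (g i) :=
    fun i j U hi hj => by
      have h1 := congrArg (M1.mres L (f.preimage_mono (le_inf hi hj))) (hc i j)
      simp only [mres_smul, mres_mres] at h1
      rw [hres]
      exact h1
  have hcancel : ∀ (i : Y) (U : Y.Opens) (hi : U ≤ V i) (a b : Γ(Y, U)),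
      f.app U a • M1.mres L (f.preimage_mono hi) (g i) = f.app U b • M1.mres L (f.preimage_mono hi) (g i) →
        a = b :=
    fun i U hi a b hab => app_injective f U (((hadm i).1 _ _).1 hab)
  let C : PicThick4.Coc Y Y :=
    { V := V
      g := c
      refl := fun i => by
        refine hcancel i _ inf_le_left _ _ ?_
        rw [map_one, one_smul, ← hc i i]
      comp := fun i j k U hi hj hk => by
        refine hcancel i U hi _ _ ?_
        rw [map_mul, mul_comm, mul_smul, ← hrel i j U hi hj, ← hrel j k U hj hk, ← hrel i k U hi hk] }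
  have hcov : ⨆ i, V i = ⊤ := eq_top_iff.2 fun y _ => Opens.mem_iSup.2 ⟨y, hyV y⟩
  obtain ⟨M, hM, e, he, hee⟩ := PicThick4.exists_module_triv C hcov
  refine ⟨M, hM, ?_⟩
  have hcov' : ⨆ i, f ⁻¹ᵁ V i = ⊤ := eq_top_iff.2 fun x _ => Opens.mem_iSup.2 ⟨f x, hyV (f x)⟩
  obtain ⟨τ, -⟩ := Twist.exists_iso_of_gen (fun i => f ⁻¹ᵁ V i) hcov' (fun i => M2.pullSec f M (e i)) g
    (fun i => (he i).pullback f) (fun i => (hadm i).1) (fun i j W hi hj t ht => by
      have hW : W ≤ f ⁻¹ᵁ (V i ⊓ V j) := le_inf hi hj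
      have h0 : M1.mres M (inf_le_right : V i ⊓ V j ≤ V j) (e j) = c i j • M1.mres M inf_le_left (e i) := hee i j
      have h1 := congrArg (fun z => M1.mres _ hW (M2.pullSec f M z)) h0
      simp only [M2.pullSec_smul, PicDesc21.pullSec_mres, mres_smul, mres_mres] at h1
      rw [PicDesc21.pullSec_mres, mres_mres] at h1
      obtain rfl : t = ores hW (f.app (V i ⊓ V j) (c i j)) :=
        ((he i).pullback f W hi).1 (ht.symm.trans h1)
      have h2 := congrArg (M1.mres L hW) (hc i j)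
      simp only [mres_smul, mres_mres] at h2
      exact h2)
  exact ⟨τ⟩

end Groth.Agent.DescTriv11
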