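import Groth.Agent.Lib.DescTriv11.Chart
import Groth.Agent.Lib.DescTriv11.Algebra
import Groth.Agent.Lib.Twist.Gen
import Groth.Agent.Lib.PicDesc21.Frame

/-!
# Values of sections along a trivialisation on the maximal fibres
-/

universe u

set_option linter.style.haveILetI false
set_option backward.isDefEq.respectTransparency false

open CategoryTheory AlgebraicGeometry TopologicalSpace

namespace Groth.Agent.DescTriv11

open Groth.Agent.M1

variable {X Y : Scheme.{u}} (f : X ⟶ Y) (L : X.Modules)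

/-- Trivialisations on the fibres over the maximal points. -/
abbrev Theta := ∀ η : Y, IsMax η →
  ((Scheme.Modules.pullback (f.fiberι η)).obj L ≅ Coh.structureModule (f.fiber η))

variable {L} (θ : Theta f L) {η : Y} (hη : IsMax η)

/-- The value of a section on a maximal fibre. -/
noncomputable def τ (W : X.Opens) (s : Γ(L, W)) : Γ(f.fiber η, f.fiberι η ⁻¹ᵁ W) :=
  (θ η hη).hom.app (f.fiberι η ⁻¹ᵁ W) (M2.pullSec (f.fiberι η) L s)

theorem τ_smul (W : X.Opens) (a : Γ(X, W)) (s : Γ(L, W)) :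
    τ f θ hη W (a • s) = (f.fiberι η).app W a * τ f θ hη W s := by
  unfold τ
  rw [M2.pullSec_smul]
  exact Scheme.Modules.Hom.app_smul (θ η hη).hom _ _

theorem τ_mres {W W' : X.Opens} (h : W' ≤ W) (s : Γ(L, W)) :
    τ f θ hη W' (mres L h s) = ores ((f.fiberι η).preimage_mono h) (τ f θ hη W s) := by
  unfold τ
  rw [PicDesc21.pullSec_mres, app_mres]
  rfl

theorem isUnit_τ {W : X.Opens} {g : Γ(L, W)} (hg : Twist.IsGen L W g) : IsUnit (τ f θ hη W g) := by
  obtain ⟨c, hc⟩ := (hg.pullback (f.fiberι η) (f.fiberι η ⁻¹ᵁ W) le_rfl).2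
    ((θ η hη).inv.app (f.fiberι η ⁻¹ᵁ W) (one _))
  have h := congrArg ((θ η hη).hom.app (f.fiberι η ⁻¹ᵁ W)) hc
  simp only [mres_id, Scheme.Modules.Hom.app_smul] at h
  rw [← comp_app_apply, Iso.inv_hom_id] at h
  exact IsUnit.of_mul_eq_one_right c h

theorem app_appLE {U : Y.Opens} {W : X.Opens} (e : W ≤ f ⁻¹ᵁ U) {W' : X.Opens} (h : W' ≤ W) (r : Γ(Y, U)) :
    ores ((f.fiberι η).preimage_mono h) ((f.fiberι η).app W (f.appLE U W e r)) =
      (f.fiberι η).app W' (f.appLE U W' (h.trans e) r) := by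
  rw [← PicDesc21.appLE_res f e h r]
  exact (ConcreteCategory.congr_hom ((f.fiberι η).naturality (homOfLE h).op) _).symm

variable {U : Y.Opens} (hU : IsAffineOpen U) {hηU : η ∈ U} (hP : primeAt hU hηU = ⊥)

include hP in
/-- Nonzero constants are invertible on the generic fibre. -/
theorem isUnit_app_appLE {W : X.Opens} (e : W ≤ f ⁻¹ᵁ U) {r : Γ(Y, U)} (hr : r ≠ 0) :
    IsUnit ((f.fiberι η).app W (f.appLE U W e r)) := by
  refine RingedSpace.isUnit_of_isUnit_germ (f.fiber η).toRingedSpace _ _ fun w hw => ?_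
  show IsUnit ((f.fiber η).presheaf.germ _ w hw ((f.fiberι η).app W (f.appLE U W e r)))
  rw [← Scheme.Hom.germ_stalkMap_apply (f.fiberι η) W w hw]
  refine IsUnit.map _ ?_
  have hfx : f (f.fiberι η w) = η := (f.range_fiberι η).le ⟨w, rfl⟩
  rw [germ_appLE f e hηU hw (specializes_of_eq hfx) r]
  exact (isUnit_germ_of_notMem hU hηU (by rw [hP]; simpa using hr)).map _

include hU in
theorem flat_appLE [Flat f] {V : X.Opens} (hV : IsAffineOpen V) (e : V ≤ f ⁻¹ᵁ U) :
    (f.appLE U V e).hom.Flat :=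
  HasRingHomProperty.appLE (P := @Flat) f inferInstance ⟨U, hU⟩ ⟨V, hV⟩ e

include hU hP in
/-- Functions are determined on the generic fibre. -/
theorem ψ_injective [Flat f] [IsDomain Γ(Y, U)] {W : X.Opens} (e : W ≤ f ⁻¹ᵁ U) :
    Function.Injective ((f.fiberι η).app W) := by
  refine (injective_iff_map_eq_zero _).2 fun z hz => ?_
  refine TopCat.Presheaf.section_ext X.sheaf _ _ _ fun x hx => ?_
  obtain ⟨V, hV, hxV, hVW⟩ := exists_isAffineOpen_mem_and_subset (X := X) (x := x) (U := W) hx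
  have hz' : (f.fiberι η).app V (ores hVW z) = 0 := by
    rw [show (f.fiberι η).app V (ores hVW z) =
        ores ((f.fiberι η).preimage_mono hVW) ((f.fiberι η).app W z) from
      ConcreteCategory.congr_hom ((f.fiberι η).naturality (homOfLE hVW).op) _, hz, map_zero]
  obtain ⟨s, hs, hsz⟩ := (app_fiberι_eq_zero_iff f hU hV ((show V ≤ W from hVW).trans e) hηU _).1 hz'
  rw [hP, Ideal.map_bot, Ideal.mem_bot] at hsz
  rw [hP, Ideal.mem_bot] at hs
  letI := (f.appLE U V ((show V ≤ W from hVW).trans e)).hom.toAlgebra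
  haveI : Module.Flat Γ(Y, U) Γ(X, V) := flat_appLE f hU hV _
  have h0 : ores hVW z = 0 :=
    mul_left_cancel_algebraMap (R := Γ(Y, U)) hs (by rw [RingHom.algebraMap_toAlgebra, mul_zero]; exact hsz)
  show X.presheaf.germ W x hx z = X.presheaf.germ W x hx 0
  rw [map_zero, ← X.presheaf.germ_res_apply (homOfLE hVW) x hxV z]
  exact (congrArg (X.presheaf.germ V x hxV) h0).trans (map_zero _)

/-- A local generator with value the constant `m / r` on the generic fibre. -/
def Good (U : Y.Opens) (W : X.Opens) (e : W ≤ f ⁻¹ᵁ U) (g : Γ(L, W)) (m r : Γ(Y, U)) : Prop :=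
  Twist.IsGen L W g ∧
    τ f θ hη W g * (f.fiberι η).app W (f.appLE U W e r) = (f.fiberι η).app W (f.appLE U W e m)

theorem Good.mres {U : Y.Opens} {W W' : X.Opens} {e : W ≤ f ⁻¹ᵁ U} {g : Γ(L, W)} {m r : Γ(Y, U)}
    (h : Good f θ hη U W e g m r) (h' : W' ≤ W) : Good f θ hη U W' (h'.trans e) (M1.mres L h' g) m r := by
  refine ⟨h.1.mres h', ?_⟩
  rw [τ_mres, ← app_appLE f e h', ← app_appLE f e h', ← map_mul, h.2]

include hU hP in
/-- Two good generators differ by the ratio of their values. -/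
theorem Good.smul_eq [Flat f] [IsDomain Γ(Y, U)] {W : X.Opens} {e : W ≤ f ⁻¹ᵁ U} {g g' : Γ(L, W)}
    {m r m' r' : Γ(Y, U)} (h : Good f θ hη U W e g m r) (h' : Good f θ hη U W e g' m' r') (a : Γ(X, W))
    (ha : g' = a • g) : a * f.appLE U W e (m * r') = f.appLE U W e (m' * r) := by
  refine ψ_injective f hU hP e ?_
  have h2 := h'.2
  rw [ha, τ_smul] at h2
  simp only [map_mul]
  rw [← h.2, ← h2]
  ring

end Groth.Agent.DescTriv11
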